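/-
Lyons' theorem, certificates for the arithmetic problems.
-/
import Cfsg.Agent.Lib.Ly.Arith

set_option autoImplicit false

namespace CA.Ly

def UC : List Kd := [
  ⟨1, 0, 0, 1, 0, 0, -1, -1, 27, 11, 11, -5⟩,
  ⟨1, 0, 1, 0, 0, 0, -1, 27, -1, 11, 11, -5⟩,
  ⟨1, 0, 1, 1, 0, 0, -8, 8, 8, 6, 6, -10⟩,
  ⟨1, 1, 0, 0, 0, 0, 27, -1, -1, 11, 11, -5⟩,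
  ⟨1, 1, 0, 1, 0, 0, 8, -8, 8, 6, 6, -10⟩,
  ⟨1, 1, 1, 0, 0, 0, 8, 8, -8, 6, 6, -10⟩,
  ⟨1, 1, 1, 1, 0, 0, 1, 1, 1, 1, 17, -15⟩,
  ⟨1, 2, 2, 2, 0, 0, 8, 8, 8, 2, 18, -14⟩]
def FC : List (List (Kd × ℕ)) := [
  [(⟨1, 1, 1, 1, 0, 0, 1, 1, 1, 1, 17, -15⟩, 3), (⟨1, 1, 1, 0, 0, 0, 8, 8, -8, 6, 6, -10⟩, 1), (⟨1, 1, 0, 1, 0, 0, 8, -8, 8, 6, 6, -10⟩, 1), (⟨1, 0, 1, 1, 0, 0, -8, 8, 8, 6, 6, -10⟩, 1)],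
  [(⟨1, 2, 2, 2, 0, 0, 8, 8, 8, 2, 18, -14⟩, 1), (⟨1, 1, 0, 0, 0, 0, 27, -1, -1, 11, 11, -5⟩, 1), (⟨1, 0, 1, 0, 0, 0, -1, 27, -1, 11, 11, -5⟩, 1), (⟨1, 0, 0, 1, 0, 0, -1, -1, 27, 11, 11, -5⟩, 1)],
  [(⟨1, 1, 1, 1, 0, 0, 1, 1, 1, 1, 17, -15⟩, 4), (⟨1, 1, 0, 0, 0, 0, 27, -1, -1, 11, 11, -5⟩, 1), (⟨1, 0, 1, 0, 0, 0, -1, 27, -1, 11, 11, -5⟩, 1), (⟨1, 0, 0, 1, 0, 0, -1, -1, 27, 11, 11, -5⟩, 1)]]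
def CC : List ℕ := [
  0x205fdfc81808160000428081816000186,
  0x201fe0080808160202047ffeb1a00008281807f1fffece80817f1fffeca80807f5fffec681807f20002ce80817f20002ca80808160002c6,
  0x2020205807f811fe0204807f801fe02017f80805fe0201808180200004e800012a0000468000109ffface7ffeb29fffac681807f1fffece80817f1fffeca80807f5fffec681807f20002ce80817f20002ca80808160002c6]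
def U3 : List Kd := [
  ⟨1, -1, -1, 3, 6, 8, -9, -9, 0, 3, 19, -13⟩,
  ⟨1, 1, 1, 1, 6, 8, 1, 1, 0, 1, 17, -15⟩,
  ⟨1, -1, -2, 2, 5, 11, -4, -8, 0, 2, 18, -14⟩,
  ⟨1, 1, 2, 2, 5, 11, 4, 8, 0, 2, 18, -14⟩,
  ⟨1, -1, -3, 1, 4, 12, -1, -3, 0, 1, 17, -15⟩,
  ⟨1, -1, -3, 5, 4, 12, -25, -75, 0, 5, 21, -11⟩,
  ⟨1, 1, 3, 3, 4, 12, 9, 27, 0, 3, 19, -13⟩,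
  ⟨1, 0, -2, 2, 4, 12, 0, -8, 0, 2, 18, -14⟩,
  ⟨1, 0, -2, 6, 4, 12, 0, -72, 0, 6, 22, -10⟩,
  ⟨1, 0, 2, 2, 4, 12, 0, 8, 0, 2, 18, -14⟩,
  ⟨1, 0, 2, 6, 4, 12, 0, 72, 0, 6, 22, -10⟩,
  ⟨1, -1, -1, 3, 4, 0, -9, -9, 0, 3, 19, -13⟩,
  ⟨1, 1, 1, 1, 4, 0, 1, 1, 0, 1, 17, -15⟩,
  ⟨1, 0, -3, 1, 3, 3, 0, -3, 0, 1, 17, -15⟩,
  ⟨1, 0, -3, 5, 3, 3, 0, -75, 0, 5, 21, -11⟩,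
  ⟨1, 0, 3, 3, 3, 3, 0, 27, 0, 3, 19, -13⟩,
  ⟨1, -1, -2, 2, 3, 3, -4, -8, 0, 2, 18, -14⟩,
  ⟨1, 1, 2, 2, 3, 3, 4, 8, 0, 2, 18, -14⟩,
  ⟨1, 0, -1, 3, 3, 11, 0, -9, 0, 3, 19, -13⟩,
  ⟨1, 0, -1, 7, 3, 11, 0, -49, 0, 7, 23, -9⟩,
  ⟨1, 0, 1, 1, 3, 11, 0, 1, 0, 1, 17, -15⟩,
  ⟨1, 0, 1, 5, 3, 11, 0, 25, 0, 5, 21, -11⟩,
  ⟨1, -1, -3, 1, 2, 4, -1, -3, 0, 1, 17, -15⟩,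
  ⟨1, -1, -3, 5, 2, 4, -25, -75, 0, 5, 21, -11⟩,
  ⟨1, 1, 3, 3, 2, 4, 9, 27, 0, 3, 19, -13⟩,
  ⟨1, 0, -2, 2, 2, 4, 0, -8, 0, 2, 18, -14⟩,
  ⟨1, 0, -2, 6, 2, 4, 0, -72, 0, 6, 22, -10⟩,
  ⟨1, 0, 2, 2, 2, 4, 0, 8, 0, 2, 18, -14⟩,
  ⟨1, 0, 2, 6, 2, 4, 0, 72, 0, 6, 22, -10⟩,
  ⟨1, 0, 0, 4, 2, 8, 0, 0, 0, 4, 20, -12⟩,
  ⟨1, -1, -4, 4, 1, 3, -16, -64, 0, 4, 20, -12⟩,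
  ⟨1, 1, 4, 4, 1, 3, 16, 64, 0, 4, 20, -12⟩,
  ⟨1, 0, -1, 3, 1, 3, 0, -9, 0, 3, 19, -13⟩,
  ⟨1, 0, -1, 7, 1, 3, 0, -49, 0, 7, 23, -9⟩,
  ⟨1, 0, 1, 1, 1, 3, 0, 1, 0, 1, 17, -15⟩,
  ⟨1, 0, 1, 5, 1, 3, 0, 25, 0, 5, 21, -11⟩,
  ⟨1, -1, -5, 3, 0, 0, -9, -45, 0, 3, 19, -13⟩,
  ⟨1, 1, 5, 1, 0, 0, 1, 5, 0, 1, 17, -15⟩,
  ⟨1, 1, 5, 5, 0, 0, 25, 125, 0, 5, 21, -11⟩,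
  ⟨1, 0, 0, 4, 0, 0, 0, 0, 0, 4, 20, -12⟩]
def F3 : List (List (Kd × ℕ)) := [
  [(⟨1, 0, 0, 4, 0, 0, 0, 0, 0, 4, 20, -12⟩, 1), (⟨1, 1, 5, 1, 0, 0, 1, 5, 0, 1, 17, -15⟩, 1), (⟨1, 0, 1, 5, 1, 3, 0, 25, 0, 5, 21, -11⟩, 1), (⟨1, -1, -4, 4, 1, 3, -16, -64, 0, 4, 20, -12⟩, 1), (⟨1, 1, 2, 2, 3, 3, 4, 8, 0, 2, 18, -14⟩, 1), (⟨1, 0, -3, 1, 3, 3, 0, -3, 0, 1, 17, -15⟩, 1)],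
  [(⟨1, 0, 0, 4, 0, 0, 0, 0, 0, 4, 20, -12⟩, 2), (⟨1, -1, -5, 3, 0, 0, -9, -45, 0, 3, 19, -13⟩, 1), (⟨1, 0, 1, 1, 1, 3, 0, 1, 0, 1, 17, -15⟩, 1), (⟨1, 1, 4, 4, 1, 3, 16, 64, 0, 4, 20, -12⟩, 1), (⟨1, -1, -2, 2, 3, 3, -4, -8, 0, 2, 18, -14⟩, 1), (⟨1, 0, -3, 1, 3, 3, 0, -3, 0, 1, 17, -15⟩, 1)],
  [(⟨1, 0, 0, 4, 0, 0, 0, 0, 0, 4, 20, -12⟩, 3), (⟨1, 1, 5, 1, 0, 0, 1, 5, 0, 1, 17, -15⟩, 1), (⟨1, -1, -5, 3, 0, 0, -9, -45, 0, 3, 19, -13⟩, 1), (⟨1, 0, 1, 1, 1, 3, 0, 1, 0, 1, 17, -15⟩, 4), (⟨1, 1, 1, 1, 4, 0, 1, 1, 0, 1, 17, -15⟩, 1)],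
  [(⟨1, 0, 0, 4, 0, 0, 0, 0, 0, 4, 20, -12⟩, 1), (⟨1, 1, 5, 1, 0, 0, 1, 5, 0, 1, 17, -15⟩, 1), (⟨1, -1, -5, 3, 0, 0, -9, -45, 0, 3, 19, -13⟩, 1), (⟨1, 0, 1, 5, 1, 3, 0, 25, 0, 5, 21, -11⟩, 1), (⟨1, 0, 1, 1, 1, 3, 0, 1, 0, 1, 17, -15⟩, 2), (⟨1, 0, -1, 3, 1, 3, 0, -9, 0, 3, 19, -13⟩, 1), (⟨1, 1, 1, 1, 4, 0, 1, 1, 0, 1, 17, -15⟩, 1)],
  [(⟨1, 0, 0, 4, 0, 0, 0, 0, 0, 4, 20, -12⟩, 2), (⟨1, 1, 5, 1, 0, 0, 1, 5, 0, 1, 17, -15⟩, 1), (⟨1, -1, -5, 3, 0, 0, -9, -45, 0, 3, 19, -13⟩, 1), (⟨1, 0, 0, 4, 2, 8, 0, 0, 0, 4, 20, -12⟩, 1), (⟨1, 0, 2, 2, 2, 4, 0, 8, 0, 2, 18, -14⟩, 1), (⟨1, 1, 1, 1, 4, 0, 1, 1, 0, 1, 17, -15⟩, 1)],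
  [(⟨1, 0, 0, 4, 0, 0, 0, 0, 0, 4, 20, -12⟩, 1), (⟨1, 1, 5, 1, 0, 0, 1, 5, 0, 1, 17, -15⟩, 2), (⟨1, 0, -1, 3, 1, 3, 0, -9, 0, 3, 19, -13⟩, 4), (⟨1, -1, -1, 3, 4, 0, -9, -9, 0, 3, 19, -13⟩, 1)],
  [(⟨1, 1, 5, 1, 0, 0, 1, 5, 0, 1, 17, -15⟩, 2), (⟨1, 0, 0, 4, 2, 8, 0, 0, 0, 4, 20, -12⟩, 1), (⟨1, 0, -2, 6, 2, 4, 0, -72, 0, 6, 22, -10⟩, 1), (⟨1, -1, -1, 3, 4, 0, -9, -9, 0, 3, 19, -13⟩, 1)],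
  [(⟨1, 0, 0, 4, 0, 0, 0, 0, 0, 4, 20, -12⟩, 3), (⟨1, 1, 5, 1, 0, 0, 1, 5, 0, 1, 17, -15⟩, 1), (⟨1, -1, -5, 3, 0, 0, -9, -45, 0, 3, 19, -13⟩, 1), (⟨1, 1, 1, 1, 4, 0, 1, 1, 0, 1, 17, -15⟩, 1), (⟨1, 0, 2, 2, 4, 12, 0, 8, 0, 2, 18, -14⟩, 1)],
  [(⟨1, 0, 0, 4, 0, 0, 0, 0, 0, 4, 20, -12⟩, 1), (⟨1, 1, 5, 1, 0, 0, 1, 5, 0, 1, 17, -15⟩, 2), (⟨1, -1, -1, 3, 4, 0, -9, -9, 0, 3, 19, -13⟩, 1), (⟨1, 0, -2, 6, 4, 12, 0, -72, 0, 6, 22, -10⟩, 1)],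
  [(⟨1, 0, 0, 4, 0, 0, 0, 0, 0, 4, 20, -12⟩, 3), (⟨1, 1, 5, 1, 0, 0, 1, 5, 0, 1, 17, -15⟩, 1), (⟨1, -1, -5, 3, 0, 0, -9, -45, 0, 3, 19, -13⟩, 1), (⟨1, 0, 2, 2, 2, 4, 0, 8, 0, 2, 18, -14⟩, 1), (⟨1, 1, 1, 1, 6, 8, 1, 1, 0, 1, 17, -15⟩, 1)],
  [(⟨1, 0, 0, 4, 0, 0, 0, 0, 0, 4, 20, -12⟩, 1), (⟨1, 1, 5, 1, 0, 0, 1, 5, 0, 1, 17, -15⟩, 2), (⟨1, 0, -2, 6, 2, 4, 0, -72, 0, 6, 22, -10⟩, 1), (⟨1, -1, -1, 3, 6, 8, -9, -9, 0, 3, 19, -13⟩, 1)]]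
def C3 : List ℕ := [
  0x202060180817e601fe117fff52a020601800052a00010e,
  0x20205f980817b5fffd0e808180600010e,
  0x2020601,
  0x2020205]

def dm0 (k : Kd) : Dm := .both k.lo k.hi
theorem goC : go (fun S => decide (S ∈ FC)) UC ⟨5, 4, 4, 5, 4, 5, 0, 0⟩ [] = true := by decide +kernel
theorem ckC : (FC.all fun S => CC.any fun n =>
    (chk ⟨16, -1, -1, -1, -1, -1, -1, 0, 0, 0, 1, 0, 0⟩ 100 (S.map (mkS dm0)) n).isSome) = true := by decide +kernel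
theorem go3 : go (fun S => decide (S ∈ F3)) U3 ⟨3, 11, -1, 55, -5, 63, 8, 12⟩ [] = true := by decide +kernel
theorem ck3 : (F3.all fun S => C3.any fun n =>
    (chk ⟨16, -1, -5, -1, -1, -5, 0, 0, 0, 0, 1, 0, 0⟩ 100 (S.map (mkS dm0)) n).isSome) = true := by decide +kernel

end CA.Ly
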