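/-
Lyons' theorem, part 0: an explicit model `T0` of the Sylow 2-subgroup of `PSU₃(4)` with its
automorphism `δ` of order 15.  Codes: `x = u + 16 z`, `u ∈ F₁₆ = T/Z`, `z ∈ Z = {0,16,32,48}`.
-/
import Cfsg.Agent.Lib.Alp.U34

set_option autoImplicit false

namespace CA.Ly

open Cfsg Subgroup CA CA.Alp
open scoped commutatorElement

def cTab : ℕ := 0x7d7d282839396c6c9999ccccdddd8888669933cc22dd7788827dd728c639936cbb44bb44ff00ff005fa05fa01be41be4a0a0a0a0e4e4e4e44444444400000000
def iTab : ℕ := 0xbce76c6ea2685c61444d2870fde37c2fa6781d65540c2c603eef4cecaa48de6964cf20507feb5cadae589f6d748e2440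
def dTab : ℕ := 0x37fe4b56785379c698594490b5f66bd47073fbceb8db4cb0f4f27b957463bacaa89a48a076fa5b177c4338c288184080
def diTab : ℕ := 0xfa77e6725f642a3ae2a21260397bd6b15354e936d2611e50bb73f6335b746b3ef2e31670787fc6f05744a832c2201a40

/-- multiplication of codes -/
def mN (a b : ℕ) : ℕ := (a ^^^ b ^^^ ((cTab >>> (2 * (16 * (a % 16) + b % 16))) % 4 * 16)) % 64
/-- table lookup -/
def lk (t a : ℕ) : ℕ := (t >>> (6 * a)) % 64

theorem mN_lt (a b : ℕ) : mN a b < 64 := Nat.mod_lt _ (by decide)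
theorem lk_lt (t a : ℕ) : lk t a < 64 := Nat.mod_lt _ (by decide)

/-- the model group -/
def T0 : Type := Fin 64

instance instDecEqT0 : DecidableEq T0 := inferInstanceAs (DecidableEq (Fin 64))
instance instFintypeT0 : Fintype T0 := inferInstanceAs (Fintype (Fin 64))
instance instDecAllT0 (p : T0 → Prop) [h : DecidablePred p] : Decidable (∀ x, p x) :=
  @Nat.decidableForallFin 64 p h
instance instDecExT0 (p : T0 → Prop) [h : DecidablePred p] : Decidable (∃ x, p x) :=
  @Nat.decidableExistsFin 64 p h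
/-- the element with a given code -/
def el (n : ℕ) : T0 := (⟨n % 64, Nat.mod_lt _ (by decide)⟩ : Fin 64)
/-- the code -/
def T0.c (x : T0) : ℕ := Fin.val (n := 64) x
theorem T0.c_lt (x : T0) : x.c < 64 := Fin.isLt (n := 64) x
theorem T0.ext {x y : T0} (h : x.c = y.c) : x = y := Fin.ext h
theorem el_c (x : T0) : el x.c = x := T0.ext (Nat.mod_eq_of_lt x.c_lt)

/-- table lookup in `T0` -/
def lkT (t : ℕ) (a : T0) : T0 := (⟨lk t a.c, lk_lt _ _⟩ : Fin 64)

theorem mN_assoc : ∀ a < 64, ∀ b < 64, ∀ c < 64, mN (mN a b) c = mN a (mN b c) := by decide +kernel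

instance instGroupT0 : Group T0 where
  mul a b := (⟨mN a.c b.c, mN_lt _ _⟩ : Fin 64)
  one := el 0
  inv := lkT iTab
  mul_assoc a b c := T0.ext (mN_assoc _ a.c_lt _ b.c_lt _ c.c_lt)
  one_mul := by decide +kernel
  mul_one := by decide +kernel
  inv_mul_cancel := by decide +kernel

theorem c_mul (a b : T0) : (a * b).c = mN a.c b.c := rfl
theorem c_inv (a : T0) : (a⁻¹).c = lk iTab a.c := rfl
theorem c_one : (1 : T0).c = 0 := rfl
theorem card_T0 : Nat.card T0 = 64 := by rw [Nat.card_eq_fintype_card]; rfl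

/-- the automorphism of order 15 -/
def δ : T0 ≃* T0 where
  toFun := lkT dTab
  invFun := lkT diTab
  left_inv := by unfold Function.LeftInverse; decide +kernel
  right_inv := by unfold Function.RightInverse Function.LeftInverse; decide +kernel
  map_mul' := by decide +kernel

theorem c_δ (a : T0) : (δ a).c = lk dTab a.c := rfl

/-- the involutions -/
def z0 : T0 := el 16
def z1 : T0 := el 32
def z2 : T0 := el 48
/-- an element of order four, `y0 * y0 = z0` -/
def y0 : T0 := el 1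

theorem isU34_T0 : IsU34 T0 :=
  ⟨card_T0, el 1, el 6, el 2, el 12, el 16, el 32, by constructor <;> decide +kernel, by decide +kernel,
    by decide +kernel, by decide +kernel⟩

theorem sq_eq_one_iff : ∀ x : T0, x * x = 1 ↔ x = 1 ∨ x = z0 ∨ x = z1 ∨ x = z2 := by decide +kernel
theorem cen_of_sq : ∀ x : T0, x * x = 1 → ∀ y, x * y = y * x := by decide +kernel
theorem sq_of_cen : ∀ x : T0, (∀ y, x * y = y * x) → x * x = 1 := by decide +kernel
theorem sq_sq : ∀ x : T0, x * x * (x * x) = 1 := by decide +kernel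
theorem cm_sq : ∀ x y : T0, ⁅x, y⁆ * ⁅x, y⁆ = 1 := by decide +kernel
theorem δ_pow : ∀ x : T0, δ^[15] x = x := by decide +kernel
theorem δ_z : δ z0 = z1 ∧ δ z1 = z2 ∧ δ z2 = z0 := by decide +kernel
theorem z_mul : z0 * z1 = z2 ∧ z1 * z2 = z0 ∧ z0 * z2 = z1 := by decide +kernel
theorem z_ne : z0 ≠ 1 ∧ z1 ≠ 1 ∧ z2 ≠ 1 ∧ z0 ≠ z1 ∧ z0 ≠ z2 ∧ z1 ≠ z2 := by decide +kernel
theorem y0_sq : y0 * y0 = z0 := by decide +kernel

/-- every group of type `U34` is isomorphic to the model -/
theorem equiv_T0 {T : Type*} [Group T] (h : IsU34 T) : Nonempty (T0 ≃* T) := isU34_T0.equiv h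

end CA.Ly
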