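/-
Lyons' theorem, block D: a simple group of order 62400 with a T.I. Sylow 2-subgroup `T0` normalized by an
element acting as `δ` is a fixed permutation group on 65 points.
-/
import Cfsg.Agent.Lib.Ly.T0
import Cfsg.Agent.Lib.Golay.Bits
import Cfsg.Agent.Lib.G.PGroup

set_option autoImplicit false

namespace CA.Ly

open Cfsg Subgroup CA CA.Gol

def oTab : ℕ := 0xfffffffffffffffffffffffffffffffffffffffffffffffe2626624e391071c8cc28a6e089331b91c4984c949165124d
def lTab : ℕ := 0xcbbdc9ca2a672e7229345ee1ac8996d1a35b774883d0b85041d6e16305024100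
def gTab : ℕ := 0x1c45e3d1a552173e30f081e295a04a241936218c1246517b94e6ceb06ed5084442c0a97015d2658a1f1066fddb634c973404a8b1c5a1ccc0
def pTab : ℕ := 0x101f273e98e257a90523568942112807175e596151a51d133648c1172417371ed86355ad0d3376c9c3132c0f077e19e053a115031608401520202774b89b6367c90530b08947274807343999676fd92570318b432f5817147918656bd13550710a412b503754f81a6163c11510f008452340407494bb8463173116d0b1964f47b054d43a86671f21369030944b4fa03415b9806b07115651b392475790145538826f0f0176113290435f808094d9a486031712f11335a84f9e40555aa28a1b2772309033a457ae20d458a6820b0732b19237ac478e6015dba08e133752701131a05fbe0100d8c6a49a03347531150bdcae6e41dac2ac8a2374f4331103cc8e2ec15bc0a8823354b4b21307c49e0e8059c4a092131435b0170fd4be4e0200c0cad8a210d4793325073d2e2981c2ced0b23094f831210f2d0e6902c4c2c88250557b372d171d6ea883c6c6c0927015fa35291f0d4ee80400c0d609221159e70b59073e682a06ccce3942d0dae10741375ea9a902c4de190251d8e50f51171e28ab04c8c62962905be30349277ee9280800c4163a6412c6e917a154b9a8b2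08d4367ae510c2e107811438aab60cdc265aa591c0e50f9134782bb404cc061a2493c4ed1fb174f929b0100404663d6812c2890e7254bab78c0c14467de910c6811e52143bb588142426bc6a16ca992e32d5b8b3841c3406fceb14ce913e129539b180200404a0f2f52cc2b10ef5d9a5899034646171f320da816e345aa385881424e073f728caa12eb558a78d98244421f0f124d2914e74dba18180400404a371c3540b12a8f9c6a589904485a175cb442b5229fbc2ad99b064c52077cf4c3b72697ac0a991a024442273c75c1b32e878c4a1818080054b2141df947874aae6cad9b86045ca2345d78458342be4ced1a84084492549cfb438f5a8e2c2c99820c4c8274dc7a418b529e0c6c188010148d421553e64987bb2e8d6284880cbd22d4d0e0459f8b4e4ce182841c9d6255d2e44d8fab0ecde3868c04ad029451e241979b6e0c608080200d7ee45954e8499e3868c16284882d3e655b50e059be78e9c3668c983d1e25da52e451ae58a9426488901d5ea4d856ec418e182840608080407ef9ebc76e9cb86ed9ab466c98b05eb96ac56a94a84e992a446890a03e78e9c3668c982e58a9426488901e3868c16284880e182840608080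

/-- the `δ`-orbit of a point (`64` is the point at infinity, `127` an unknown value) -/
def orbc (x : ℕ) : ℕ := Nat.land (Nat.shiftRight oTab (Nat.mul 3 x)) 7
/-- the position in the orbit -/
def lg (x : ℕ) : ℕ := Nat.land (Nat.shiftRight lTab (Nat.mul 4 x)) 15
/-- powers of `δ` -/
def pw (e x : ℕ) : ℕ := Nat.land (Nat.shiftRight pTab (Nat.mul 7 (Nat.add (Nat.mul 65 (Nat.mod e 15)) x))) 127
/-- the involution swapping the point at infinity and `1` -/
def g0c (x : ℕ) : ℕ := Nat.land (Nat.shiftRight gTab (Nat.mul 7 x)) 127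
/-- left multiplication -/
def Lc (a n : ℕ) : ℕ := Bool.rec n (mN a n) (Nat.blt n 64)

theorem pw_mod (e x : ℕ) : pw (e % 15) x = pw e x := by
  unfold pw; congr 5; exact Nat.mod_mod _ _
theorem pw_lt (e : ℕ) {x : ℕ} (hx : x < 65) : pw e x < 65 := by
  have : allLt (fun e => allLt (fun x => Nat.blt (pw e x) 65) 65) 15 = true := by decide +kernel
  rw [← pw_mod]; exact blt_iff.1 (allLt_iff.1 (allLt_iff.1 this _ (Nat.mod_lt _ (by norm_num))) x hx)
theorem pw_add (e e' : ℕ) {x : ℕ} (hx : x < 65) : pw e (pw e' x) = pw (e + e') x := by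
  have : allLt (fun e => allLt (fun e' => allLt (fun x => Nat.beq (pw e (pw e' x)) (pw (e + e') x)) 65) 15) 15
    = true := by decide +kernel
  rw [← pw_mod e, ← pw_mod e', ← pw_mod (e + e'), Nat.add_mod, pw_mod (_ + _)]
  exact beq_iff.1 (allLt_iff.1 (allLt_iff.1 (allLt_iff.1 this _ (Nat.mod_lt _ (by norm_num))) _
    (Nat.mod_lt _ (by norm_num))) x hx)
theorem pw_zero : ∀ x < 65, pw 0 x = x := by decide +kernel
theorem orb_lg {x u : ℕ} (hx : x < 65) (hu : u < 65) (h : orbc x = orbc u) : x = pw (lg x + 15 - lg u) u := by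
  have : allLt (fun x => allLt (fun u => !(Nat.beq (orbc x) (orbc u)) || Nat.beq x (pw (lg x + 15 - lg u) u)) 65) 65
    = true := by decide +kernel
  simpa [h] using allLt_iff.1 (allLt_iff.1 this x hx) u hu
theorem orb_pw {u : ℕ} (hu : u < 65) {i : ℕ} (hi : i < 15) : orbc (pw i u) = orbc u := by
  have : allLt (fun u => allLt (fun i => Nat.beq (orbc (pw i u)) (orbc u)) 15) 65 = true := by decide +kernel
  exact beq_iff.1 (allLt_iff.1 (allLt_iff.1 this u hu) i hi)
theorem orb_ne : ∀ u < 65, orbc 127 ≠ orbc u := by decide +kernel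
theorem Lc_lt (a : ℕ) {n : ℕ} (hn : n < 65) : Lc a n < 65 := by
  unfold Lc; cases Nat.blt n 64
  · exact hn
  · exact (mN_lt _ _).trans (by norm_num)

/-- extend a partial involution by the pair `u ↔ v` -/
def pf (k u v : ℕ) (rest : ℕ → ℕ) (x : ℕ) : ℕ :=
  Bool.rec (Bool.rec (rest x) (pw (Nat.mul k (Nat.sub (Nat.add (lg x) 15) (lg v))) u) (Nat.beq (orbc x) (orbc v)))
    (pw (Nat.mul k (Nat.sub (Nat.add (lg x) 15) (lg u))) v) (Nat.beq (orbc x) (orbc u))
def bot (_ : ℕ) : ℕ := 127
/-- `x` is known and differs from `y` -/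
def df (x y : ℕ) : Bool := force x fun x => !(Nat.beq x 127) && !(Nat.beq x y)
def ninv (F : ℕ → ℕ) (x : ℕ) : Bool := force x fun x => df (force (F x) F) x
def fx (F : ℕ → ℕ) (u : ℕ) : Bool := anyLt (fun i => force (pw i u) fun x => Nat.beq (F x) x) 15
def tst (F : ℕ → ℕ) (a b n : ℕ) : ℕ := force (Lc b (force (Lc 1 (force (Lc a n) F)) F)) F
def ref (F : ℕ → ℕ) (b : ℕ) : Bool := force (F 17) fun a => force b fun b => !(Nat.beq a 127) &&
  force (tst F a b 1) fun h1 => force (tst F a b 5) fun h5 =>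
    allLt (fun j => df h1 (pw j 1) || df h5 (pw j 5) || df (tst F a b 7) (pw j 7) || df (tst F a b 16) (pw j 16)) 15
def fin2 (k c0 c1 r c2 : ℕ) : Bool :=
  let F := pf k 0 64 (pf k 16 c0 (pf k 1 c1 (pf k r c2 bot)))
  ninv F r || (Nat.beq (orbc c2) (orbc r) && fx F 16 && fx F r) || ref F (lk iTab c1) ||
    anyLt (fun j => allLt (fun n => Nat.beq (F n) (g0c (pw j n))) 65) 15
def fin1 (k c0 c1 : ℕ) : Bool :=
  let F := pf k 0 64 (pf k 16 c0 (pf k 1 c1 bot))
  ninv F 1 || (Nat.beq (orbc c1) 1 && fx F 16 && fx F 1) ||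
    force (Bool.rec 5 7 (Nat.beq (orbc c1) 2)) fun r => allLt (fin2 k c0 c1 r) 65
def fin0 (k c0 : ℕ) : Bool :=
  let F := pf k 0 64 (pf k 16 c0 bot)
  ninv F 16 || ninv F (pw 3 c0) || (Nat.beq (F 16) 16 && Nat.beq (F 32) 32) || allLt (fin1 k c0) 65

theorem fin_chk : allLt (fun k => !(Nat.beq (pw (Nat.mul k k) 1) (pw 1 1)) || allLt (fin0 k) 65) 15 = true := by
  decide +kernel

end CA.Ly
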